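import Groth.Agent.LangLib.Semilinear
import Mathlib.FieldTheory.Separable
import Mathlib.LinearAlgebra.Trace
import Mathlib.RingTheory.TensorProduct.Free
import Mathlib.LinearAlgebra.Quotient.Basic

/-!
# Fixed vectors of Frobenius semilinear maps and traces
-/

universe u

open Polynomial

namespace Groth.Agent.SGA4hPLin

variable {K U : Type*} [Field K] [AddCommGroup U] [Module K U]

/-- A non-nilpotent Frobenius-semilinear map has a nonzero fixed vector. -/
theorem exists_fixed_ne_zero [IsAlgClosed K] (p : ℕ) [hp : Fact p.Prime] [CharP K p]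
    [FiniteDimensional K U] (ψ : U →+ U) (hψ : ∀ (c : K) (v : U), ψ (c • v) = c ^ p • ψ v)
    (hnn : ∀ r, ∃ v, ψ^[r] v ≠ 0) : ∃ v, v ≠ 0 ∧ ψ v = v := by
  classical
  have hiter : ∀ (r : ℕ) (c : K) (v : U), ψ^[r] (c • v) = c ^ p ^ r • ψ^[r] v := by
    intro r
    induction r with
    | zero => simp
    | succ r ih =>
      intro c v
      rw [Function.iterate_succ_apply', ih, hψ, Function.iterate_succ_apply', ← pow_mul, pow_succ]
  have hadd : ∀ (r : ℕ) (v w : U), ψ^[r] (v + w) = ψ^[r] v + ψ^[r] w := by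
    intro r
    induction r with
    | zero => simp
    | succ r ih =>
      intro v w
      simp only [Function.iterate_succ_apply', ih, map_add]
  let Ker : ℕ →o Submodule K U :=
    ⟨fun r => { carrier := {v | ψ^[r] v = 0}
                add_mem' := fun {a b} ha hb => by
                  simp only [Set.mem_setOf_eq] at ha hb ⊢
                  rw [hadd, ha, hb, add_zero]
                zero_mem' := iterate_map_zero ψ r
                smul_mem' := fun c a ha => by
                  simp only [Set.mem_setOf_eq] at ha ⊢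
                  rw [hiter, ha, smul_zero] },
      monotone_nat_of_le_succ fun r v hv => by
        show ψ^[r + 1] v = 0
        rw [Function.iterate_succ_apply', show ψ^[r] v = 0 from hv, map_zero]⟩
  obtain ⟨r, hr⟩ := monotone_stabilizes_iff_noetherian.2 (inferInstance : IsNoetherian K U) Ker
  -- `ψ` is injective on the image of `ψ^[r]`
  have hinj : ∀ y, ψ (ψ^[r] y) = 0 → ψ^[r] y = 0 := by
    intro y hy
    have h1 : y ∈ Ker (r + 1) := by
      show ψ^[r + 1] y = 0
      rw [Function.iterate_succ_apply', hy]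
    rw [← hr (r + 1) r.le_succ] at h1
    exact h1
  obtain ⟨v, hv⟩ := hnn r
  let e : ℕ → U := fun i => ψ^[i] (ψ^[r] v)
  have he0 : e 0 ≠ 0 := hv
  have hes : ∀ i, e (i + 1) = ψ (e i) := fun i => Function.iterate_succ_apply' ψ i _
  have hr' : ∀ i, ψ^[r] (ψ^[i] v) = e i := fun i => by
    show ψ^[r] (ψ^[i] v) = ψ^[i] (ψ^[r] v)
    rw [← Function.iterate_add_apply, ← Function.iterate_add_apply, add_comm]
  -- a first linear relation
  have hex : ∃ n, ∃ a : ℕ → K, e n = ∑ i ∈ Finset.range n, a i • e i := by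
    obtain ⟨n, hn⟩ := monotone_stabilizes_iff_noetherian.2 (inferInstance : IsNoetherian K U)
      ⟨fun n => Submodule.span K (e '' Set.Iio n),
        fun a b hab => Submodule.span_mono (Set.image_mono (Set.Iio_subset_Iio hab))⟩
    have h1 : e n ∈ Submodule.span K (e '' Set.Iio n) :=
      (hn (n + 1) n.le_succ).ge (Submodule.subset_span ⟨n, Set.mem_Iio.2 n.lt_succ_self, rfl⟩)
    rw [← Finset.coe_Iio, Submodule.mem_span_image_finset_iff_exists_fun'] at h1
    obtain ⟨a, ha⟩ := h1
    exact ⟨n, a, by rw [← Nat.Iio_eq_range]; exact ha.symm⟩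
  obtain ⟨a, ha⟩ := Nat.find_spec hex
  have hmin : ∀ m < Nat.find hex, ∀ b : ℕ → K, e m ≠ ∑ i ∈ Finset.range m, b i • e i :=
    fun m hm b h => Nat.find_min hex hm ⟨b, h⟩
  obtain ⟨n, hn⟩ : ∃ n, Nat.find hex = n + 1 :=
    Nat.exists_eq_succ_of_ne_zero fun h => by
      rw [h, Finset.sum_range_zero] at ha
      exact he0 ha
  rw [hn] at ha hmin
  have ha0 : a 0 ≠ 0 := by
    intro h0
    have hb : ∀ i, ∃ c : K, (c ^ p ^ r) ^ p = a (i + 1) := fun i => by
      obtain ⟨c, hc⟩ := IsAlgClosed.exists_pow_nat_eq (a (i + 1)) (n := p ^ r * p)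
        (Nat.mul_pos (pow_pos hp.out.pos r) hp.out.pos)
      exact ⟨c, by rw [← pow_mul, hc]⟩
    choose c hc using hb
    have hx : ψ^[r] (ψ^[n] v - ∑ i ∈ Finset.range n, c i • ψ^[i] v) =
        e n - ∑ i ∈ Finset.range n, c i ^ p ^ r • e i := by
      rw [iterate_map_sub]
      congr 1
      · exact hr' n
      · refine (map_sum (AddMonoidHom.mk' (ψ^[r]) (hadd r)) _ _).trans ?_
        refine Finset.sum_congr rfl fun i _ => ?_
        rw [AddMonoidHom.mk'_apply, hiter, hr']
    have h1 : ψ (e n - ∑ i ∈ Finset.range n, c i ^ p ^ r • e i) = 0 := by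
      rw [map_sub, map_sum, ← hes, ha, Finset.sum_range_succ', h0, zero_smul, add_zero,
        ← Finset.sum_sub_distrib]
      refine Finset.sum_eq_zero fun i _ => ?_
      rw [hψ, hc, ← hes, sub_self]
    rw [← hx] at h1
    have h2 := hinj _ h1
    rw [hx, sub_eq_zero] at h2
    exact hmin n n.lt_succ_self _ h2
  -- the polynomial system
  let Q : ℕ → K[X] := fun i => Nat.rec (C (a 0) * X ^ p) (fun j q => q ^ p + C (a (j + 1)) * X ^ p) i
  have hQd : ∀ i, (Q i).natDegree = p ^ (i + 1) := by
    intro i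
    induction i with
    | zero => simp [Q, ha0]
    | succ j ih =>
      have h1 : (C (a (j + 1)) * X ^ p : K[X]).natDegree < (Q j ^ p).natDegree := by
        refine lt_of_le_of_lt (natDegree_C_mul_X_pow_le _ _) ?_
        rw [natDegree_pow, ih]
        exact lt_mul_of_one_lt_right hp.out.pos (Nat.one_lt_pow (Nat.succ_ne_zero j) hp.out.one_lt)
      rw [show Q (j + 1) = Q j ^ p + C (a (j + 1)) * X ^ p from rfl,
        natDegree_add_eq_left_of_natDegree_lt h1, natDegree_pow, ih, ← pow_succ']
  have hQ' : ∀ i, derivative (Q i) = 0 := by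
    intro i
    cases i with
    | zero => simp [Q, derivative_X_pow, CharP.cast_eq_zero K p]
    | succ j => simp [Q, derivative_pow, derivative_X_pow, CharP.cast_eq_zero K p]
  have hPdeg : (Q n - X).natDegree = p ^ (n + 1) := by
    rw [natDegree_sub_eq_left_of_natDegree_lt, hQd]
    rw [natDegree_X, hQd]
    exact Nat.one_lt_pow (Nat.succ_ne_zero n) hp.out.one_lt
  have hPsep : (Q n - X).Separable := by
    rw [Polynomial.Separable, derivative_sub, hQ', derivative_X, zero_sub]
    exact isCoprime_one_right.neg_right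
  obtain ⟨t, ht, htne⟩ : ∃ t, IsRoot (Q n - X) t ∧ t ≠ 0 := by
    by_contra! h
    have h1 : (Q n - X).roots.toFinset ⊆ {0} := fun t ht => by
      simp only [Multiset.mem_toFinset, mem_roots', Finset.mem_singleton] at ht ⊢
      exact h t ht.2
    have h2 := Finset.card_le_card h1
    rw [Finset.card_singleton, Multiset.toFinset_card_of_nodup (nodup_roots hPsep),
      IsAlgClosed.card_roots_eq_natDegree, hPdeg] at h2
    exact absurd h2 (not_le.2 (Nat.one_lt_pow (Nat.succ_ne_zero n) hp.out.one_lt))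
  rw [IsRoot, eval_sub, eval_X, sub_eq_zero] at ht
  let x : ℕ → K := fun i => (Q i).eval t
  refine ⟨∑ i ∈ Finset.range (n + 1), x i • e i, ?_, ?_⟩
  · intro h
    rw [Finset.sum_range_succ, show x n = t from ht, add_eq_zero_iff_eq_neg] at h
    refine hmin n n.lt_succ_self (fun i => -(t⁻¹ * x i)) ?_
    calc e n = t⁻¹ • t • e n := by rw [inv_smul_smul₀ htne]
      _ = t⁻¹ • -(∑ i ∈ Finset.range n, x i • e i) := by rw [h, neg_neg]
      _ = _ := by simp [Finset.smul_sum, smul_smul]
  · rw [map_sum, Finset.sum_congr rfl fun i _ => show ψ (x i • e i) = x i ^ p • e (i + 1) by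
      rw [hψ, hes]]
    rw [Finset.sum_range_succ, show x n ^ p = t ^ p by rw [show x n = t from ht], ha, Finset.smul_sum,
      Finset.sum_range_succ' (fun i => t ^ p • a i • e i),
      Finset.sum_range_succ' (fun i => x i • e i)]
    have hxs : ∀ i, x (i + 1) = x i ^ p + a (i + 1) * t ^ p := fun i => by simp [x, Q]
    have hx0 : x 0 = a 0 * t ^ p := by simp [x, Q]
    simp only [hxs, hx0, smul_smul, add_smul, Finset.sum_add_distrib, mul_comm (t ^ p)]
    abel

/-- If some power of `f` maps everything into a stable submodule, the trace is the trace of the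
restriction. -/
theorem trace_eq_trace_restrict [FiniteDimensional K U] (f : U →ₗ[K] U) (p : Submodule K U)
    (hf : ∀ x ∈ p, f x ∈ p) (m : ℕ) (hm : ∀ x, (f ^ m) x ∈ p) :
    LinearMap.trace K U f = LinearMap.trace K p (f.restrict hf) := by
  obtain ⟨π, hπ⟩ := p.subtype.exists_leftInverse_of_injective p.ker_subtype
  have hπ' : ∀ x : p, π (x : U) = x := fun x => LinearMap.congr_fun hπ x
  let g : U →ₗ[K] U := f - (f ∘ₗ p.subtype) ∘ₗ π
  have hg0 : ∀ x ∈ p, g x = 0 := fun x hx => by simp [g, hπ' ⟨x, hx⟩]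
  have hgj : ∀ (j : ℕ) (x : U), (g ^ j) x - (f ^ j) x ∈ p := by
    intro j
    induction j with
    | zero => simp
    | succ j ih =>
      intro x
      have h1 : g ((g ^ j) x) - f ((g ^ j) x) ∈ p := by
        simpa [g] using hf _ (π ((g ^ j) x)).2
      have h2 := hf _ (ih x)
      rw [map_sub] at h2
      simpa [pow_succ', sub_add_sub_cancel] using p.add_mem h1 h2
  have hgn : IsNilpotent g := ⟨m + 1, by
    ext x
    rw [pow_succ', Module.End.mul_apply, LinearMap.zero_apply]
    exact hg0 _ (by simpa using p.add_mem (hgj m x) (hm x))⟩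
  have h0 : LinearMap.trace K U g = 0 := (LinearMap.isNilpotent_trace_of_isNilpotent hgn).eq_zero
  rw [map_sub, sub_eq_zero, LinearMap.trace_comp_comm'] at h0
  rw [h0]
  congr 1
  apply LinearMap.ext
  intro x
  apply Subtype.ext
  simp [hπ' ⟨f x, hf x x.2⟩]

end Groth.Agent.SGA4hPLin
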